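import Cfsg.Agent.CosetCert.J4M24K.FactsData
import Cfsg.Agent.CosetCert.J4M24K.JustData
import Cfsg.Agent.CosetCert.J4M24K.TableData
import Cfsg.Agent.CosetCert.CoxExtra
import Cfsg.Agent.CosetCert.Pack

/-! Generated: the certificate. -/

set_option maxRecDepth 100000

namespace Cfsg.Agent.CosetCert.J4M24K

noncomputable def data : Data where
  K := 6
  n := 154
  M := 1654
  Nf := 4662
  nR := 13
  iv := fun x => if x < 3 then x + 3 else if x < 6 then x - 3 else x
  F := get48 factStore
  J := getVar justStore
  E := get48 edgeStore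
  L := get48 repStore
  P := get48 treeStore
  W := [
    [0, 0, 0],
    [2, 2],
    [0, 1, 0, 1, 0, 1, 0, 1, 0, 1],
    [0, 1, 2, 0, 2, 4, 3, 1],
    [0, 2, 0, 2, 3, 4, 0, 2, 0, 5, 3, 4],
    [0, 2, 4, 0, 2, 4, 0, 2, 4, 0, 5, 4],
    [],
    [0, 3],
    [1, 4],
    [2, 5],
    [3, 0],
    [4, 1],
    [5, 2],
    [0],
    [1]]
  PW := fun k => Nat.land (Nat.shiftRight 0x2000000000000000100000000000000660000000000000045000000000000002400000000000000c300000000000000a200000000000000810000000000000000029825184a3094610290c1184a418461000000110a308c41000041104411044100000000000000630000000000000421 (Nat.mul 64 k)) 0xffffffffffffffff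
  powers := [
    ([0, 0, 0], 1),
    ([2, 2], 1),
    ([0, 1, 0, 1, 0, 1, 0, 1, 0, 1], 1),
    ([0, 1, 2, 0, 2, 4, 3, 1], 1),
    ([0, 2, 0, 2, 3, 4, 0, 2, 0, 5, 3, 4], 1),
    ([0, 2, 4, 0, 2, 4, 0, 2, 4, 0, 5, 4], 1),
    ([], 1),
    ([0, 3], 1),
    ([1, 4], 1),
    ([2, 5], 1),
    ([3, 0], 1),
    ([4, 1], 1),
    ([5, 2], 1)]

/-- The relators. -/
def relWords : List (List (Fin 3 × Bool)) := [
    [(0, true), (0, true), (0, true)],
    [(2, true), (2, true)],
    [(0, true), (1, true), (0, true), (1, true), (0, true), (1, true), (0, true), (1, true), (0, true), (1, true)],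
    [(0, true), (1, true), (2, true), (0, true), (2, true), (1, false), (0, false), (1, true)],
    [(0, true), (2, true), (0, true), (2, true), (0, false), (1, false), (0, true), (2, true), (0, true), (2, false), (0, false), (1, false)],
    [(0, true), (2, true), (1, false), (0, true), (2, true), (1, false), (0, true), (2, true), (1, false), (0, true), (2, false), (1, false)]]

/-- The subgroup's generators. -/
def subWords : List (List (Fin 3 × Bool)) := [
    [(0, true)],
    [(1, true)]]

/-- The numbering of the generators. -/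
def enc (b : Fin 3) : Nat := b.val

/-- The generator of a number. -/
def dec (x : Nat) : Fin 3 × Bool := if x < 3 then (Fin.ofNat 3 x, true) else (Fin.ofNat 3 x, false)

end Cfsg.Agent.CosetCert.J4M24K
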